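import Groth.Agent.S9702
import Groth.Agent.VarDim.Fibre
import Groth.Agent.VarDim.Top
import Groth.Agent.GrpSchLib.HomFlat
import Mathlib.AlgebraicGeometry.Morphisms.FlatRank

/-!
# The degree of a generically finite morphism
-/

universe u

open CategoryTheory CategoryTheory.Limits AlgebraicGeometry

set_option backward.isDefEq.respectTransparency false

namespace Groth.Agent.H84GenDeg

variable {X Y : Scheme.{u}}

/-- A dominant morphism of integral varieties of equal dimension has only the generic point over the generic point. -/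
theorem eq_genericPoint_of_map_eq {k : Type u} [Field k] [IsIntegral X] [IsIntegral Y] (f : X ⟶ Y) [IsDominant f]
    (q : Y ⟶ Spec (CommRingCat.of k)) [LocallyOfFiniteType q] [LocallyOfFiniteType (f ≫ q)]
    (hdim : topologicalKrullDim ↥X = topologicalKrullDim ↥Y) (x : X) (hx : f x = genericPoint ↥Y) :
    x = genericPoint ↥X := by
  haveI : LocallyOfFiniteType f := locallyOfFiniteType_of_comp f q
  have hd : VarDim.deg (f ≫ q) (genericPoint ↥X) = VarDim.deg q (genericPoint ↥Y) := by
    have h1 := VarDim.topologicalKrullDim_eq_deg_genericPoint (f ≫ q)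
    have h2 := VarDim.topologicalKrullDim_eq_deg_genericPoint q
    rw [hdim, h2] at h1
    exact_mod_cast h1.symm
  refine (VarDim.eq_of_specializes_of_deg_le (p := f ≫ q) (genericPoint_specializes x) ?_).symm
  rw [hd, VarDim.deg_comp_eq f q x, hx]
  exact Nat.le_add_right _ _

/-- The rank of a finite scheme over a field is the dimension of its functions. -/
theorem finrank_Gamma {K : CommRingCat.{u}} (hK : IsField K) {P : Scheme.{u}} (π : P ⟶ Spec K) [IsFinite π] [Flat π]
    (s : Spec K) :
    π.finrank s = (letI := ((Scheme.ΓSpecIso K).inv ≫ π.appTop).hom.toAlgebra; Module.finrank K Γ(P, ⊤)) := by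
  letI := hK.toField
  haveI : IsAffine P := isAffine_of_isAffineHom π
  let φ := (Scheme.ΓSpecIso K).inv ≫ π.appTop
  letI := φ.hom.toAlgebra
  have hπ : π = P.isoSpec.hom ≫ Spec.map φ := by
    rw [Spec.map_comp, ← Category.assoc, Scheme.isoSpec_hom_naturality, Category.assoc, Scheme.isoSpec_Spec_hom,
      ← Spec.map_comp, Iso.inv_hom_id, Spec.map_id, Category.comp_id]
  haveI : IsFinite (Spec.map φ) := by
    rw [← MorphismProperty.cancel_left_of_respectsIso @IsFinite P.isoSpec.hom, ← hπ]; infer_instance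
  haveI : Flat (Spec.map φ) := by
    rw [← MorphismProperty.cancel_left_of_respectsIso @Flat P.isoSpec.hom, ← hπ]; infer_instance
  haveI : Module.Finite K Γ(P, ⊤) := RingHom.finite_algebraMap.1 ((IsFinite.SpecMap_iff φ).1 inferInstance)
  conv_lhs => rw [hπ]
  rw [Scheme.Hom.finrank_comp_left_of_isIso,
    show Spec.map φ = Spec.map (CommRingCat.ofHom (algebraMap K Γ(P, ⊤))) from rfl]
  rw [Scheme.Hom.finrank_SpecMap_algebraMap]
  simp [Module.rankAtStalk_eq_finrank_of_free]
  all_goals rfl

/-- A fibre consisting of a single point with field stalk is the spectrum of the residue field. -/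
theorem finrank_snd_eq (f : X ⟶ Y) (ξ : X) (hξ : IsField (X.presheaf.stalk ξ))
    (huniq : ∀ x : X, f x = f ξ → x = ξ) [IsFinite (pullback.snd f (Y.fromSpecResidueField (f ξ)))]
    [Flat (pullback.snd f (Y.fromSpecResidueField (f ξ)))] (s : Spec (Y.residueField (f ξ))) :
    (pullback.snd f (Y.fromSpecResidueField (f ξ))).finrank s =
      (letI := (f.residueFieldMap ξ).hom.toAlgebra;
        Module.finrank (Y.residueField (f ξ)) (X.residueField ξ)) := by
  let i := Y.fromSpecResidueField (f ξ)
  let e := Spec.map (f.residueFieldMap ξ)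
  let σ : Spec (X.residueField ξ) ⟶ pullback f i := pullback.lift (X.fromSpecResidueField ξ) e
    (Scheme.Hom.SpecMap_residueFieldMap_fromSpecResidueField f ξ).symm
  haveI : IsAffine (pullback f i) := isAffine_of_isAffineHom (pullback.snd f i)
  have hpt : ∀ z : ↥(pullback f i), pullback.fst f i z = ξ := by
    intro z
    refine huniq _ ?_
    rw [← Scheme.Hom.comp_apply, pullback.condition, Scheme.Hom.comp_apply, Scheme.fromSpecResidueField_apply]
  let R := Γ(pullback f i, ⊤)
  let z₀ : Spec (X.residueField ξ) := IsLocalRing.closedPoint (X.residueField ξ)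
  have hsub : Subsingleton ↥(pullback f i) :=
    ⟨fun a b => (pullback.fst f i).injective ((hpt a).trans (hpt b).symm)⟩
  haveI : IsLocalRing R := by
    haveI : Subsingleton (PrimeSpectrum R) :=
      ⟨fun a b => (pullback f i).isoSpec.inv.injective (hsub.elim _ _)⟩
    obtain ⟨P, hP⟩ : Nonempty (PrimeSpectrum R) := ⟨(pullback f i).isoSpec.hom (σ z₀)⟩
    haveI : Nontrivial R := PrimeSpectrum.nontrivial ⟨P, hP⟩
    obtain ⟨m, hm⟩ := Ideal.exists_maximal R
    exact IsLocalRing.of_unique_max_ideal ⟨m, hm, fun m' hm' =>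
      congrArg PrimeSpectrum.asIdeal (Subsingleton.elim (⟨m', hm'.isPrime⟩ : PrimeSpectrum R) ⟨m, hm.isPrime⟩)⟩
  haveI : IsIso (X.residue ξ) := by
    refine (ConcreteCategory.isIso_iff_bijective _).2 ⟨?_, X.residue_surjective ξ⟩
    letI := hξ.toField
    exact (X.residue ξ).hom.injective
  let g : Spec R ⟶ X := (pullback f i).isoSpec.inv ≫ pullback.fst f i
  have hg : g (IsLocalRing.closedPoint R) = ξ := hpt _
  let t : pullback f i ⟶ Spec (X.residueField ξ) :=
    (pullback f i).isoSpec.hom ≫ Spec.map (eqToHom (by rw [hg]) ≫ Scheme.stalkClosedPointTo g) ≫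
      inv (Spec.map (X.residue ξ))
  have ht : t ≫ X.fromSpecResidueField ξ = pullback.fst f i := by
    have h1 := Scheme.Spec_stalkClosedPointTo_fromSpecStalk g
    have h2 : ∀ (a : X) (ha : a = ξ) (φ : X.presheaf.stalk a ⟶ R),
        Spec.map (eqToHom (by rw [ha]) ≫ φ) ≫ X.fromSpecStalk ξ = Spec.map φ ≫ X.fromSpecStalk a := by
      rintro a rfl φ; simp
    simp only [t, Category.assoc, Scheme.fromSpecResidueField, IsIso.inv_hom_id_assoc]
    rw [h2 _ hg, h1]
    simp [g]
  haveI : IsIso σ := by
    refine ⟨t, ?_, ?_⟩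
    · rw [← cancel_mono (X.fromSpecResidueField ξ), Category.assoc, ht, pullback.lift_fst, Category.id_comp]
    · rw [← cancel_mono (pullback.fst f i), Category.assoc, pullback.lift_fst, ht, Category.id_comp]
  letI := (f.residueFieldMap ξ).hom.toAlgebra
  have hσ : σ ≫ pullback.snd f i = e := pullback.lift_snd _ _ _
  haveI : IsFinite e := hσ ▸ inferInstance
  haveI : Flat e := hσ ▸ inferInstance
  haveI : Module.Finite (Y.residueField (f ξ)) (X.residueField ξ) :=
    RingHom.finite_algebraMap.1 ((IsFinite.SpecMap_iff (f.residueFieldMap ξ)).1 inferInstance)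
  rw [← Scheme.Hom.finrank_comp_left_of_isIso σ, hσ,
    show e = Spec.map (CommRingCat.ofHom (algebraMap (Y.residueField (f ξ)) (X.residueField ξ))) from rfl,
    Scheme.Hom.finrank_SpecMap_algebraMap]
  simp [Module.rankAtStalk_eq_finrank_of_free]

/-- Generic finiteness with constant fibre rank. -/
theorem exists_open_finrank_eq [IsIntegral X] [IsIntegral Y] [IsLocallyNoetherian Y] (f : X ⟶ Y) [IsDominant f]
    [LocallyOfFiniteType f] [QuasiCompact f]
    (huniq : ∀ x : X, f x = genericPoint ↥Y → x = genericPoint ↥X) :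
    (letI := (f.residueFieldMap (genericPoint ↥X)).hom.toAlgebra;
      Module.Finite (Y.residueField (f.base (genericPoint ↥X))) (X.residueField (genericPoint ↥X))) ∧
    ∃ U : Y.Opens, Nonempty ↥U ∧ ∀ y : Y, y ∈ U →
      IsFinite (pullback.snd f (Y.fromSpecResidueField y)) ∧
        (letI := ((Scheme.ΓSpecIso (CommRingCat.of (Y.residueField y))).inv ≫
            (pullback.snd f (Y.fromSpecResidueField y)).appTop).hom.toAlgebra;
          Module.finrank (Y.residueField y) ↑(Γ(pullback f (Y.fromSpecResidueField y), ⊤))) =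
        (letI := (f.residueFieldMap (genericPoint ↥X)).hom.toAlgebra;
          Module.finrank (Y.residueField (f.base (genericPoint ↥X))) (X.residueField (genericPoint ↥X))) := by
  obtain ⟨hAB, hAC, hAD⟩ := Groth.Agent.S9702.result f
  have hA := hAC.2 huniq
  refine ⟨hA, ?_⟩
  obtain ⟨V₁, -, ⟨⟨v₁, hv₁⟩⟩, hfin⟩ := (hAD (Or.inr inferInstance)).1 hA
  obtain ⟨V₂, ⟨v₂, hv₂⟩, hflat⟩ := GrpSchLib.exists_opens_flat f
  let U := V₁ ⊓ V₂
  have hη : genericPoint ↥Y ∈ U := ⟨(genericPoint_specializes v₁).mem_open V₁.2 hv₁,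
    (genericPoint_specializes v₂).mem_open V₂.2 hv₂⟩
  let fU := f ∣_ U
  haveI : IsFinite fU := by
    haveI := hfin
    have h1 := MorphismProperty.of_isPullback (P := @IsFinite) (isPullback_morphismRestrict (f ∣_ V₁) (V₁.ι ⁻¹ᵁ U)).flip hfin
    have h2 : V₁.ι ''ᵁ (V₁.ι ⁻¹ᵁ U) = U := by
      rw [Scheme.Hom.image_preimage_eq_opensRange_inf, Scheme.Opens.opensRange_ι]
      exact inf_eq_right.mpr inf_le_left
    have h3 := (MorphismProperty.arrow_mk_iso_iff @IsFinite (morphismRestrictRestrict f V₁ (V₁.ι ⁻¹ᵁ U))).1 h1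
    rwa [h2] at h3
  haveI : Flat fU := by
    have : Flat (fU ≫ U.ι) := by
      rw [morphismRestrict_ι]
      refine Flat.of_stalkMap _ fun x => ?_
      rw [Scheme.Hom.stalkMap_comp]
      exact RingHom.Flat.comp (hflat _ x.2.2)
        (RingHom.Flat.of_bijective (ConcreteCategory.bijective_of_isIso ((f ⁻¹ᵁ U).ι.stalkMap x)))
    have hsq : IsPullback (𝟙 _) fU (fU ≫ U.ι) U.ι :=
      IsPullback.of_horiz_isIso_mono ⟨by simp⟩
    exact MorphismProperty.of_isPullback (P := @Flat) hsq this
  haveI : IsLocallyNoetherian (U : Scheme.{u}) := isLocallyNoetherian_of_isOpenImmersion U.ι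
  haveI : LocallyOfFinitePresentation fU := inferInstance
  haveI : Nonempty ↥U := ⟨⟨_, hη⟩⟩
  haveI : Nonempty ↥(U : Scheme.{u}) := ⟨⟨_, hη⟩⟩
  haveI : IsIntegral (U : Scheme.{u}) := isIntegral_of_isOpenImmersion U.ι
  have hconst : ∀ a b : U.toScheme, fU.finrank a = fU.finrank b :=
    fun a b => (Scheme.Hom.isLocallyConstant_finrank fU).apply_eq_of_preconnectedSpace a b
  have key : ∀ (y : Y) (hy : y ∈ U), ∃ (_ : IsFinite (pullback.snd f (Y.fromSpecResidueField y)))
      (_ : Flat (pullback.snd f (Y.fromSpecResidueField y))),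
      ∀ s, (pullback.snd f (Y.fromSpecResidueField y)).finrank s = fU.finrank ⟨y, hy⟩ := by
    intro y hy
    let i := Y.fromSpecResidueField y
    have hr : Set.range i ⊆ Set.range U.ι := by
      rw [Scheme.Opens.range_ι]
      rintro _ ⟨s, rfl⟩
      rw [Scheme.fromSpecResidueField_apply]
      exact hy
    let iU := IsOpenImmersion.lift U.ι i hr
    have hiU : iU ≫ U.ι = i := IsOpenImmersion.lift_fac _ _ _
    have hsq : IsPullback (pullback.fst fU iU ≫ (f ⁻¹ᵁ U).ι) (pullback.snd fU iU) f i := by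
      have h := (IsPullback.of_hasPullback fU iU).paste_horiz (isPullback_morphismRestrict f U).flip
      rwa [hiU] at h
    let ε := hsq.isoPullback
    have hε : ε.inv ≫ pullback.snd fU iU = pullback.snd f i := hsq.isoPullback_inv_snd
    haveI h1 : IsFinite (pullback.snd f i) := hε ▸ inferInstance
    haveI h2 : Flat (pullback.snd f i) := hε ▸ inferInstance
    refine ⟨h1, h2, fun s => ?_⟩
    show (pullback.snd f i).finrank s = _
    rw [← hε, Scheme.Hom.finrank_comp_left_of_isIso, Scheme.Hom.finrank_pullback_snd]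
    congr 1
    refine Subtype.ext ?_
    show (iU ≫ U.ι) s = y
    rw [hiU, Scheme.fromSpecResidueField_apply]
  have hξη : f (genericPoint ↥X) = genericPoint ↥Y := Groth.Agent.Triage.GenFinite.map_genericPoint f
  have hξU : f (genericPoint ↥X) ∈ U := hξη ▸ hη
  refine ⟨U, inferInstance, fun y hy => ?_⟩
  obtain ⟨h1, h2, h3⟩ := key y hy
  refine ⟨h1, ?_⟩
  obtain ⟨g1, g2, g3⟩ := key _ hξU
  haveI := h1
  haveI := h2
  haveI := g1
  haveI := g2
  have a := finrank_Gamma (Field.toIsField (Y.residueField y)) (pullback.snd f (Y.fromSpecResidueField y))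
    (IsLocalRing.closedPoint (Y.residueField y))
  have b := finrank_snd_eq f (genericPoint ↥X) (Groth.Agent.Triage.GenFinite.isField_stalk rfl)
    (fun x hx => huniq x (hx.trans hξη)) (IsLocalRing.closedPoint _)
  rw [h3] at a
  rw [g3] at b
  rw [hconst ⟨_, hξU⟩ ⟨y, hy⟩] at b
  exact a.symm.trans b

end Groth.Agent.H84GenDeg
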